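import Groth.Agent.Lib.AffLine15.Unip
import Groth.Agent.Lib.BddFin29.Ga
import Groth.Agent.Lib.TorPts21.BorelCentre
import Groth.Agent.Lib.TorPts21.Nilpotent
import Groth.Agent.Lib.BorelFix21.Borel
import Groth.Agent.Lib.AffPart25.Perfect
import Groth.Agent.Lib.BorelLam21.Limit
import Groth.Agent.S11402

/-!
# Maps from the affine line and semi-abelian varieties
-/

set_option autoImplicit false
set_option linter.style.haveILetI false
set_option backward.isDefEq.respectTransparency false
set_option backward.isDefEq.respectTransparency.types false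
set_option maxSynthPendingDepth 3
set_option synthInstance.maxHeartbeats 400000
universe u

open CategoryTheory CategoryTheory.Limits MonoidalCategory CartesianMonoidalCategory MonObj AlgebraicGeometry

noncomputable section

namespace Groth.Agent.AffLine15

/-- The affine line is the underlying scheme of the additive group. -/
def lineIso (S : Scheme.{u}) : Over.mk (𝔸(PUnit.{u + 1}; S) ↘ S) ≅ Red.Ga S where
  hom := GaPts.ptOfFn (AffineSpace.coord S PUnit.unit)
  inv := Over.homMk (AffineSpace.homOfVector (Red.Ga S).hom fun _ => Red.gaFn (𝟙 (Red.Ga S)))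
    (AffineSpace.homOfVector_over _ _)
  hom_inv_id := by
    refine Over.OverMorphism.ext (AffineSpace.hom_ext ?_ fun i => ?_)
    · exact Over.w (GaPts.ptOfFn _ ≫ Over.homMk (U := Red.Ga S) (V := Over.mk (𝔸(PUnit.{u + 1}; S) ↘ S)) _ _)
    · simp only [Over.comp_left, Scheme.Hom.comp_appTop, CommRingCat.comp_apply, Over.id_left,
        Scheme.Hom.id_appTop, CommRingCat.id_apply, Over.homMk_left, AffineSpace.homOfVector_appTop_coord]
      rw [← GaPts.gaFn_comp, Category.comp_id, GaPts.gaFn_ptOfFn]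
      rfl
  inv_hom_id := GaPts.gaFn_injective (by
    simp only [GaPts.gaFn_comp, GaPts.gaFn_ptOfFn, Over.homMk_left]
    exact AffineSpace.homOfVector_appTop_coord _ _ _)

theorem mono_of_preimmersion {X Y : Scheme.{u}} (f : X ⟶ Y) (_ : IsClosedImmersion f) : Mono f := inferInstance

variable {k : Type u} [Field k]

open BddFin29 in
/-- The units of the functions on the additive group are constants. -/
theorem exists_const_of_isUnit {F : Γ((Red.Ga (Spec (CommRingCat.of k))).left, ⊤)} (hF : IsUnit F) :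
    (toUnit (Red.Ga (Spec (CommRingCat.of k))) ≫ η[Red.Ga (Spec (CommRingCat.of k))]).left.appTop F = F := by
  obtain ⟨f, hf, -⟩ := exists_coord (K := k)
  haveI := hf
  haveI : IsIso f.left := inferInstanceAs (IsIso ((Over.forget _).map f))
  apply (ConcreteCategory.bijective_of_isIso f.left.appTop).1
  obtain ⟨P, hP⟩ := (Scheme.ΓSpecIso (CommRingCat.of (Polynomial k))).symm.commRingCatIsoToRingEquiv.surjective
    (f.left.appTop F)
  have hPu : IsUnit P := by
    have := hF.map f.left.appTop.hom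
    rw [← hP] at this
    simpa using this.map (Scheme.ΓSpecIso (CommRingCat.of (Polynomial k))).symm.commRingCatIsoToRingEquiv.symm
  obtain ⟨a, -, rfl⟩ := Polynomial.isUnit_iff.1 hPu
  have hC : ∀ (g : sp k (Polynomial k) ⟶ sp k (Polynomial k)), g.left.appTop (f.left.appTop F) = f.left.appTop F :=
    fun g => by
      rw [← hP]
      have h := CategoryTheory.congr_fun (spFn_alg g) a
      have h2 := CategoryTheory.congr_fun (spFn_alg (𝟙 (sp k (Polynomial k)))) a
      simp only [spFn, CommRingCat.comp_apply, Over.id_left, Scheme.Hom.id_appTop, CommRingCat.id_apply,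
        CommRingCat.hom_ofHom] at h h2
      exact h.trans h2.symm
  have h1 := hC (f ≫ toUnit _ ≫ η[Red.Ga (Spec (CommRingCat.of k))] ≫ inv f)
  rw [← CommRingCat.comp_apply, ← Scheme.Hom.comp_appTop, ← Over.comp_left]
  rw [← CommRingCat.comp_apply, ← Scheme.Hom.comp_appTop, ← Over.comp_left] at h1
  rw [show (f ≫ toUnit _ ≫ η[Red.Ga (Spec (CommRingCat.of k))] ≫ inv f) ≫ f =
    f ≫ toUnit _ ≫ η[Red.Ga (Spec (CommRingCat.of k))] by simp] at h1
  exact h1

variable [IsAlgClosed k]

/-- Morphisms from the additive group to an abelian variety are constant. -/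
theorem const_to_abelian {A : Over (Spec (CommRingCat.of k))} [GrpObj A] [IsProper A.hom] [Smooth A.hom]
    [ConnectedSpace A.left] (f : Red.Ga (Spec (CommRingCat.of k)) ⟶ A) :
    f = toUnit _ ≫ η[Red.Ga (Spec (CommRingCat.of k))] ≫ f := by
  let S := Spec (CommRingCat.of k)
  obtain ⟨hGa, hGs, hGc⟩ := AttrBorel21.smooth_affine_Ga k
  haveI := hGa; haveI := hGs; haveI := hGc
  haveI : IsProper (𝟙_ (Over S)).hom := inferInstanceAs (IsProper (𝟙 S))
  haveI : Smooth (𝟙_ (Over S)).hom := inferInstanceAs (Smooth (𝟙 S))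
  haveI : IsClosedImmersion (𝟙 (Red.Ga S) : Red.Ga S ⟶ Red.Ga S).left := inferInstanceAs (IsClosedImmersion (𝟙 _))
  haveI : Surjective (toUnit (Red.Ga S)).left := ⟨fun y => ⟨η[Red.Ga S].left (IsLocalRing.closedPoint k),
    Subsingleton.elim (α := PrimeSpectrum k) _ _⟩⟩
  haveI : Flat (toUnit (Red.Ga S)).left := by
    rw [show (toUnit (Red.Ga S)).left = (Red.Ga S).hom from (Category.comp_id _).symm.trans (Over.w (toUnit (Red.Ga S)))]
    infer_instance
  haveI : IsMonHom (toUnit (Red.Ga S)) := ⟨toUnit_unique _ _, toUnit_unique _ _⟩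
  have hker : AlgGrp.IsKernel (𝟙 (Red.Ga S)) (toUnit (Red.Ga S)) := by
    refine IsPullback.mk' ?_ (fun _ u v e _ => by simpa using e) fun T x y _ => ⟨x, Category.comp_id _, toUnit_unique _ _⟩
    rw [Category.id_comp]
    exact toUnit_unique _ _
  obtain ⟨g, hg, -⟩ := S11402.result k (Red.Ga S) (Red.Ga S) (𝟙 _) (fun X g n => ⟨g * n * g⁻¹, by simp⟩)
    (fun N' _ i' _ _ _ _ _ _ => ⟨i', Category.comp_id _⟩) (𝟙_ (Over S)) (toUnit _) hker A f
  rw [← hg, ← Category.assoc η[Red.Ga S], toUnit_unique (η[Red.Ga S] ≫ toUnit _) (𝟙 _), Category.id_comp]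

/-- Morphisms from the affine line to an extension of an abelian variety by a torus are constant. -/
theorem const_to_semiabelian {G T A : Over (Spec (CommRingCat.of k))} [GrpObj G] [GrpObj T] [GrpObj A]
    (i : T ⟶ G) [IsMonHom i] (hT : Red.IsTorus T) (q : G ⟶ A) [IsMonHom q] [IsProper A.hom] [Smooth A.hom]
    [ConnectedSpace A.left] (hq : AlgGrp.IsKernel i q) (f : Red.Ga (Spec (CommRingCat.of k)) ⟶ G) :
    f = toUnit _ ≫ η[Red.Ga (Spec (CommRingCat.of k))] ≫ f := by
  let S := Spec (CommRingCat.of k)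
  let c : Red.Ga S ⟶ G := toUnit _ ≫ η[Red.Ga S] ≫ f
  have h0 : (f * c⁻¹) ≫ q = 1 := by
    rw [MonObj.mul_comp, GrpObj.inv_comp, mul_inv_eq_one, Category.assoc, Category.assoc]
    exact const_to_abelian (f ≫ q)
  obtain ⟨l, hl, -⟩ := hq.exists_lift (f * c⁻¹) (toUnit _) (by rw [h0, Hom.one_def])
  obtain ⟨r, ⟨C⟩⟩ := TorPts21.exists_chars hT
  have hlc : (toUnit (Red.Ga S) ≫ η[Red.Ga S]) ≫ l = l := C.inj fun a => by
    rw [C.nat]
    exact exists_const_of_isUnit (((C.ch l).comp (Units.coeHom _)).toHomUnits ⟨a, a⁻¹, mul_inv_cancel a, inv_mul_cancel a⟩).isUnit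
  have h1 : f * c⁻¹ = 1 := by
    rw [← hl, ← hlc, Category.assoc, Category.assoc, hl]
    rw [MonObj.comp_mul, MonObj.comp_mul, GrpObj.comp_inv, GrpObj.comp_inv]
    simp only [c, ← Category.assoc, comp_toUnit]
    exact mul_inv_cancel _
  exact mul_inv_eq_one.1 h1

/-- A connected affine group receiving only constant maps from the affine line is a torus. -/
theorem isTorus_of_const (N : Over (Spec (CommRingCat.of k))) [GrpObj N] [IsAffine N.left] [Smooth N.hom]
    [ConnectedSpace N.left]
    (hN : ∀ f : Red.Ga (Spec (CommRingCat.of k)) ⟶ N, f = toUnit _ ≫ η[Red.Ga (Spec (CommRingCat.of k))] ≫ f) :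
    Red.IsTorus N := by
  obtain ⟨T₀, _, iT₀, hT₀⟩ := TorPts21.exists_maxTorus N
  haveI := hT₀.1; haveI := hT₀.2.1
  obtain ⟨B, _, iB, -, hB, -⟩ := TorPts21.exists_borel_containing iT₀ hT₀.2.2.1
  obtain ⟨hm, hc, hs, hn, hsol, hmax⟩ := id hB
  haveI : Mono iB.left := mono_of_preimmersion _ hc
  haveI := hm; haveI := hc; haveI := hs; haveI := hn
  haveI : IsAffine B.left := isAffine_of_isAffineHom iB.left
  haveI : Mono iB := Over.mono_of_mono_left iB
  have hred : Red.IsReductiveOver k B := ⟨inferInstance, hs, hn, fun U _ u _ huc hus hun _ hU => by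
    haveI := huc; haveI := hus; haveI := hun
    haveI : IsAffine U.left := isAffine_of_isAffineHom u.left
    haveI : Mono u := Over.mono_of_mono_left u
    by_contra hne
    obtain ⟨f, hf⟩ := exists_nonconst U hU hne
    refine hf (η[Red.Ga (Spec (CommRingCat.of k))] ≫ f) ((cancel_mono (u ≫ iB)).1 ?_)
    rw [Category.assoc (toUnit _), Category.assoc η[_]]
    exact hN (f ≫ u ≫ iB)⟩
  have hBT := TorPts21.isTorus_of_solvable_reductive hred hsol
  have hcomm : ∀ (W : Over (Spec (CommRingCat.of k))) (b b' : W ⟶ B), b * b' = b' * b := fun W b b' => by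
    obtain ⟨r, ⟨C⟩⟩ := TorPts21.exists_chars hBT
    exact C.inj fun a => by rw [C.mul, C.mul, _root_.mul_comm]
  have hcent : ∀ {X : Over (Spec (CommRingCat.of k))} (h : X ⟶ N) (b : X ⟶ B), h * (b ≫ iB) = (b ≫ iB) * h := fun {X} h b => by
    have h1 := TorPts21.commute_of_commute_borel (TorPts21.isBorel_of_isBorelOver hB) (b ≫ iB)
      (fun W x b' => by rw [← Category.assoc, ← MonObj.mul_comp, hcomm, MonObj.mul_comp]) X (𝟙 X) h
    rw [Category.id_comp] at h1
    exact h1.symm
  obtain ⟨T, _, iT, t, hT, ht⟩ := TorPts21.exists_maxTorus_le hB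
  have hNsol : Red.IsSolvableGrp N := TorPts21.isSolvableGrp_of_central_maxTorus hT fun x y => by
    rw [← ht, ← Category.assoc, hcent]
  haveI : IsClosedImmersion (𝟙 N : N ⟶ N).left := inferInstanceAs (IsClosedImmersion (𝟙 N.left))
  haveI : IsIso iB := hmax N (𝟙 N) iB ‹_› ‹_› ‹_› hNsol (Category.comp_id _)
  haveI : IsMonHom (inv iB) := TorsorSch25.isMonHom_of_points (inv iB) fun T x y => (cancel_mono iB).1 (by
    rw [Category.assoc, IsIso.inv_hom_id, Category.comp_id, MonObj.mul_comp, Category.assoc, Category.assoc,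
      IsIso.inv_hom_id, Category.comp_id, Category.comp_id])
  haveI : IsIso iB.left := inferInstanceAs (IsIso ((Over.forget _).map iB))
  haveI : IsIso (inv iB).left := inferInstanceAs (IsIso ((Over.forget _).map (inv iB)))
  exact BorelLam21.isTorus_of_closed hBT (inv iB)

end Groth.Agent.AffLine15
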