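import Groth.Agent.Lib.UnipPoly15.Main
import Groth.Agent.Lib.UniStr23.AffSp
import Groth.Agent.Lib.TorPts21.DimTwo
import Groth.Agent.Lib.TorPts21.SubOfPts
import Groth.Agent.Lib.TorPts21.UnipBorel
import Groth.Agent.Lib.TorPts21.Structure
import Groth.Agent.Lib.SolvSpec15.Solvable
import Groth.Agent.Lib.AttrBorel21.AlmostSimple

/-!
# Nonconstant maps from the affine line to groups without subtori
-/

set_option autoImplicit false
set_option linter.style.haveILetI false
set_option backward.isDefEq.respectTransparency false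
set_option backward.isDefEq.respectTransparency.types false
set_option maxSynthPendingDepth 3
set_option synthInstance.maxHeartbeats 400000
universe u

open CategoryTheory CategoryTheory.Limits MonoidalCategory CartesianMonoidalCategory MonObj AlgebraicGeometry
open scoped commutatorElement

noncomputable section

namespace Groth.Agent.AffLine15

attribute [local instance] InvRing21.gamAlg BorelFix21.ptsTop

variable {k : Type u} [Field k] [IsAlgClosed k]

/-- All terms of the derived series of the points of a connected group are preconnected. -/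
theorem isPreconnected_derivedSeries {U : Over (Spec (CommRingCat.of k))} [GrpObj U] [IsAffine U.left]
    [LocallyOfFiniteType U.hom] [ConnectedSpace U.left] (n : ℕ) :
    IsPreconnected ((derivedSeries (VecGrp.pt k k ⟶ U) n : Subgroup _) : Set (VecGrp.pt k k ⟶ U)) := by
  induction n with
  | zero =>
    haveI : PreconnectedSpace (VecGrp.pt k k ⟶ U) := BorelFix21.preconnectedSpace_pts
    rw [derivedSeries_zero, Subgroup.coe_top]
    exact isPreconnected_univ
  | succ n ih =>
    set D := derivedSeries (VecGrp.pt k k ⟶ U) n with hD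
    haveI : PreconnectedSpace D := isPreconnected_iff_preconnectedSpace.1 ih
    have h := BorelFix21.isPreconnected_commutator (M := D)
      (fun a => ((BorelFix21.continuous_mul_left (a : VecGrp.pt k k ⟶ U)).comp continuous_subtype_val).subtype_mk _)
      (fun a => ((BorelFix21.continuous_commutator (a : VecGrp.pt k k ⟶ U)).comp continuous_subtype_val).subtype_mk _)
    have e : derivedSeries (VecGrp.pt k k ⟶ U) (n + 1) = (commutator D).map D.subtype := by
      rw [commutator_def, Subgroup.map_commutator, ← MonoidHom.range_eq_map, Subgroup.range_subtype, derivedSeries_succ]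
    rw [e, Subgroup.coe_map]
    exact h.image _ continuous_subtype_val.continuousOn

/-- A nontrivial connected group without subtori contains a nontrivial commutative one. -/
theorem exists_comm_subgroup (U : Over (Spec (CommRingCat.of k))) [GrpObj U] [IsAffine U.left] [Smooth U.hom]
    [ConnectedSpace U.left] (hU : Red.HasNoSubtorus k U) (hne : ¬ Red.IsTrivialGrp U) :
    ∃ (Z : Over (Spec (CommRingCat.of k))) (_ : GrpObj Z) (j : Z ⟶ U), IsMonHom j ∧ IsClosedImmersion j.left ∧
      IsCommMonObj Z ∧ Smooth Z.hom ∧ ConnectedSpace Z.left ∧ Red.HasNoSubtorus k Z ∧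
      ∃ z : VecGrp.pt k k ⟶ Z, z ≠ 1 := by
  obtain ⟨N, hN⟩ := TorPts21.isSolvableGrp_of_hasNoSubtorus U hU
  classical
  have hex : ∃ n, derivedSeries (VecGrp.pt k k ⟶ U) n = ⊥ := ⟨N, hN _⟩
  obtain ⟨m, hm⟩ : ∃ m, Nat.find hex = m + 1 := by
    refine Nat.exists_eq_succ_of_ne_zero fun h => hne (TorPts21.isTrivialGrp_of_pts fun x => ?_)
    have h1 := Nat.find_spec hex
    rw [h, derivedSeries_zero] at h1
    exact Subgroup.mem_bot.1 (h1 ▸ Subgroup.mem_top x)
  set D := derivedSeries (VecGrp.pt k k ⟶ U) m with hD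
  have hDne : D ≠ ⊥ := Nat.find_min hex (hm ▸ Nat.lt_succ_self m)
  have hDc : ∀ a ∈ D, ∀ b ∈ D, ⁅a, b⁆ = 1 := fun a ha b hb => by
    have h1 := Nat.find_spec hex
    rw [hm, derivedSeries_succ] at h1
    exact Subgroup.mem_bot.1 (h1 ▸ Subgroup.commutator_mem_commutator ha hb)
  obtain ⟨C, hC⟩ := TorPts21.exists_subgroup_closure D
  have hCc : ∀ a ∈ C, ∀ b ∈ C, ⁅a, b⁆ = 1 := by
    have h1 : ∀ a ∈ D, ∀ b ∈ C, ⁅a, b⁆ = 1 := fun a ha b hb => by
      have hb' : b ∈ closure (D : Set (VecGrp.pt k k ⟶ U)) := by rw [← hC]; exact hb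
      exact closure_minimal (t := (fun y => ⁅a, y⁆) ⁻¹' {(1 : VecGrp.pt k k ⟶ U)}) (fun y hy => hDc a ha y hy)
        ((TorPts21.isClosed_singleton_pt _).preimage (BorelFix21.continuous_commutator a)) hb'
    intro a ha b hb
    have ha' : a ∈ closure (D : Set (VecGrp.pt k k ⟶ U)) := by rw [← hC]; exact ha
    have h2 : ⁅b, a⁆ = 1 := closure_minimal (t := (fun y => ⁅b, y⁆) ⁻¹' {(1 : VecGrp.pt k k ⟶ U)})
      (fun y hy => show ⁅b, y⁆ = 1 by rw [← commutatorElement_inv, h1 y hy b hb, inv_one])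
      ((TorPts21.isClosed_singleton_pt _).preimage (BorelFix21.continuous_commutator b)) ha'
    rw [← commutatorElement_inv, h2, inv_one]
  have hCcl : IsClosed (C : Set (VecGrp.pt k k ⟶ U)) := hC ▸ isClosed_closure
  obtain ⟨Z, _, j, hjm, hjc, hZs, hrange, hpts⟩ := TorPts21.exists_closed_subgroup_of_pts C hCcl
  haveI := hjm; haveI := hjc; haveI := hZs
  haveI : IsAffine Z.left := isAffine_of_isAffineHom j.left
  haveI : Mono j := Over.mono_of_mono_left j
  have hconn : ConnectedSpace Z.left := by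
    have h1 : _root_.IsConnected (Set.range j.left) := by
      refine ⟨⟨_, ⟨InvRing21.img (1 : VecGrp.pt k k ⟶ Z), rfl⟩⟩, ?_⟩
      rw [hrange, hC]
      exact (((isPreconnected_derivedSeries (U := U) m).closure).image _ continuous_induced_dom.continuousOn).closure
    exact j.left.isClosedEmbedding.isEmbedding.toHomeomorph.symm.connectedSpace_iff.1 (isConnected_iff_connectedSpace.1 h1)
  haveI : IsAffine (Z ⊗ Z).left := isAffine_of_isAffineHom (pullback.fst Z.hom Z.hom)
  haveI : Smooth (Z ⊗ Z).hom := inferInstanceAs (Smooth (pullback.fst Z.hom Z.hom ≫ Z.hom))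
  haveI : IsReduced (Z ⊗ Z).left := OrbitTop19.isReduced_of_smooth (Z ⊗ Z).hom
  have h0 : fst Z Z * snd Z Z * (fst Z Z)⁻¹ * (snd Z Z)⁻¹ = (1 : Z ⊗ Z ⟶ Z) := by
    refine TorPts21.eq_one_of_forall_pts _ fun x => (cancel_mono j).1 ?_
    have := hCc _ ((hpts _).1 ⟨x ≫ fst Z Z, rfl⟩) _ ((hpts _).1 ⟨x ≫ snd Z Z, rfl⟩)
    rw [commutatorElement_def] at this
    simpa only [MonObj.comp_mul, GrpObj.comp_inv, MonObj.mul_comp, GrpObj.inv_comp, MonObj.one_comp] using this
  rw [mul_inv_eq_one, mul_inv_eq_iff_eq_mul] at h0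
  have hcomm : IsCommMonObj Z := ⟨by
    have h := congrArg ((β_ Z Z).hom ≫ ·) h0
    simp only [Hom.mul_def, lift_fst_snd, Category.id_comp, ← Category.assoc, comp_lift] at h
    simpa using h⟩
  refine ⟨Z, inferInstance, j, hjm, hjc, hcomm, hZs, hconn, fun T _ i _ _ hT => hU T (i ≫ j) hT, ?_⟩
  obtain ⟨d, hd, hd1⟩ : ∃ d ∈ D, d ≠ 1 := by
    by_contra h
    exact hDne (eq_bot_iff.2 fun x hx => Subgroup.mem_bot.2 (by_contra fun hx1 => h ⟨x, hx, hx1⟩))
  obtain ⟨z, hz⟩ := (hpts d).2 (by rw [← SetLike.mem_coe, hC]; exact subset_closure hd)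
  exact ⟨z, fun e => hd1 (by rw [← hz, e, MonObj.one_comp])⟩

/-- A nontrivial connected group without subtori receives a nonconstant map from the affine line. -/
theorem exists_nonconst (U : Over (Spec (CommRingCat.of k))) [GrpObj U] [IsAffine U.left] [Smooth U.hom]
    [ConnectedSpace U.left] (hU : Red.HasNoSubtorus k U) (hne : ¬ Red.IsTrivialGrp U) :
    ∃ f : Red.Ga (Spec (CommRingCat.of k)) ⟶ U, ∀ c, f ≠ toUnit _ ≫ c := by
  obtain ⟨Z, _, j, hjm, hjc, hZc, hZs, hZn, hZt, z, hz⟩ := exists_comm_subgroup U hU hne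
  haveI := hjc; haveI := hZc; haveI := hZs; haveI := hZn
  haveI : IsAffine Z.left := isAffine_of_isAffineHom j.left
  obtain ⟨A, _, _, n, ⟨e⟩, ⟨eZ⟩⟩ := UnipPoly15.exists_algEquiv Z hZt
  haveI : Mono j := Over.mono_of_mono_left j
  rcases Nat.eq_zero_or_pos n with rfl | hn
  · refine absurd ?_ hz
    refine (cancel_mono eZ.inv).1 (DiagGL.ev_injective fun a => ?_)
    obtain ⟨p, rfl⟩ := e.symm.surjective a
    rw [MvPolynomial.eq_C_of_isEmpty p, show (MvPolynomial.C _ : MvPolynomial (Fin 0) k) = algebraMap k _ (p.coeff 0) from rfl,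
      e.symm.commutes, DiagGL.ev_algebraMap, DiagGL.ev_algebraMap]
  · let S := Spec (CommRingCat.of k)
    let g : Red.Ga S ⟶ CoactBr.sp k A :=
      UniStr23.toAff (fun _ : Fin n => Red.gaFn (𝟙 (Red.Ga S))) ≫ CoactBr.pt (e : A →ₐ[k] MvPolynomial (Fin n) k)
    refine ⟨g ≫ eZ.hom ≫ j, fun c hc => ?_⟩
    have hk : ∀ t : k, (SolvSpec15.gaPt (k := k) k t ≫ g) ≫ eZ.hom ≫ j = toUnit _ ≫ c := fun t => by
      rw [Category.assoc, hc, ← Category.assoc, comp_toUnit]
    have h01 : SolvSpec15.gaPt (k := k) k 0 ≫ g = SolvSpec15.gaPt (k := k) k 1 ≫ g :=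
      (cancel_mono (eZ.hom ≫ j)).1 (by rw [hk, hk])
    have hev : DiagGL.ev g (e.symm (MvPolynomial.X ⟨0, hn⟩)) = Red.gaFn (𝟙 (Red.Ga S)) := by
      rw [DiagGL.ev_comp, DiagGL.ev_pt]
      show _ = _
      erw [← UniStr23.ev_eq_app]
      rw [show (e : A →ₐ[k] MvPolynomial (Fin n) k) (e.symm (MvPolynomial.X ⟨0, hn⟩)) = MvPolynomial.X ⟨0, hn⟩ from
        e.apply_symm_apply _, UniStr23.ev_toAff]
    have ht : ∀ t : k, DiagGL.ev (SolvSpec15.gaPt (k := k) k t ≫ g) (e.symm (MvPolynomial.X ⟨0, hn⟩)) =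
        (Scheme.ΓSpecIso (CommRingCat.of k)).inv t := fun t => by
      rw [DiagGL.ev_comp, hev]
      erw [← GaPts.gaFn_comp, Category.comp_id]
      exact GaPts.gaFn_ptOfFn _
    have h2 := ht 0
    rw [h01, ht 1] at h2
    exact one_ne_zero ((Scheme.ΓSpecIso (CommRingCat.of k)).symm.commRingCatIsoToRingEquiv.injective h2)

end Groth.Agent.AffLine15
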